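import Cfsg.Agent.Omega.NSix.CaseJ.Fus
import Cfsg.Agent.Omega.NSix.JNotPlug

/-!
# THEOREM SN, K-free part, case `J(S) ≰ O₂(P)` (helper581, bb #18311): (N1)

`V = V_P` is the module of the even subsets of `2^m + 1 ≥ 9` points.

* `zz_ne` : the point `z_0` is not conjugate to a pair;
* `le_of_inv` : `P ≤ X`, `Y ≥ V` elementary abelian and normalised by `X`, `[C_A(V), Y] = 1` for one exact offender
  `A` acting as a transposition: `X ≤ N_G(V)` (transvections, helper537's `eq_of_tv`);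
* `jjQ_le` **(N1)** : `N_G(J(O₂(P))) ≤ N_G(V)`.
-/

set_option autoImplicit false

namespace Cfsg.Agent.Omega.NO3S.SN.J.N1

open Subgroup Cfsg Cfsg.Agent.PLocal.ThompsonJ Cfsg.Agent.ZN Cfsg.Agent.ZN.ChoiceBase
open Cfsg.Agent.ZN.ChoiceSit Cfsg.Agent.PLocal.ElemAbSup
open Cfsg.Agent.Omega.MinPar
open Cfsg.Agent.Omega.S5.Def Cfsg.Agent.Omega.S5.Syl Cfsg.Agent.Omega.S5.Pair
open Cfsg.Agent.Omega.NSix.Base Cfsg.Agent.Omega.NSix.Basic
open Cfsg.Agent.Omega.SQ1.Bau (mem_AA_of_comm elem_comm elem_sq mem_sup_comm card_sup_comm)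
open Cfsg.Agent.Omega.SQ1 (Bau.In.zj_elem Bau.In.zj_le)
open Cfsg.Agent.Omega.NSix.CaseJ.Base Cfsg.Agent.Omega.NSix.CaseJ.Exact
open Cfsg.Agent.Omega.NSix.CaseJ.LemQ
open Cfsg.Agent.Omega.TV (GSys)
open Cfsg.Agent.Omega.NSix.TvGroup (chain_of eq_of_tv)
open Cfsg.Agent.Omega.NSix.JNot (zc_iff zz_zero_mem closure_norm)

universe u

variable {G : Type u} [Group G] [Finite G] {S : Sylow 2 G} {P : Subgroup G} {m : ℕ}
  {ε : (Fin (2 ^ m + 1) → ZMod 2) → G}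

/-- The point `z_0` is not a pair. -/
theorem zz_ne_rr (h : Hyp S P ε) (i j : Fin (2 ^ m + 1)) : rr ε i j ≠ zz ε 0 := by
  classical
  intro h0
  have h1 : ε (Pi.single i 1 + Pi.single j 1 + Pi.single 0 1) = 1 := by
    rw [h.ev.add, h.ev.add]
    change rr ε i j * zz ε 0 = 1
    rw [h0, zz_sq h.ev]
  obtain ⟨l, hl⟩ : ∃ l : Fin (2 ^ m + 1), l ∉ ({i, j, 0} : Finset (Fin (2 ^ m + 1))) := by
    by_contra hcon
    push Not at hcon
    have h8 : (Finset.univ : Finset (Fin (2 ^ m + 1))) ⊆ {i, j, 0} := fun l _ => hcon l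
    have h9 := Finset.card_le_card h8
    have h10 : ({i, j, 0} : Finset (Fin (2 ^ m + 1))).card ≤ 3 := Finset.card_le_three
    rw [Finset.card_univ, Fintype.card_fin] at h9
    have := h.five
    omega
  simp only [Finset.mem_insert, Finset.mem_singleton, not_or] at hl
  have h2 : (Pi.single i 1 + Pi.single j 1 + Pi.single 0 1 : Fin (2 ^ m + 1) → ZMod 2) l = 0 := by
    simp only [Pi.add_apply]
    rw [Pi.single_eq_of_ne hl.1, Pi.single_eq_of_ne hl.2.1, Pi.single_eq_of_ne hl.2.2]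
    rfl
  rcases (h.ev.ker _).1 h1 with h3 | h3
  · have h4 := congrArg (fun x : Fin (2 ^ m + 1) → ZMod 2 => ∑ l, x l) h3
    simp only [Pi.add_apply, Finset.sum_add_distrib, Finset.sum_pi_single', Finset.mem_univ,
      if_true, Pi.zero_apply, Finset.sum_const_zero] at h4
    revert h4; decide
  · have h4 := congrFun h3 l
    rw [h2, Pi.one_apply] at h4
    exact zero_ne_one h4

/-- The point `z_0` is not conjugate to a pair. -/
theorem zz_ne (h : Hyp S P ε) (h3 : 3 ≤ m) (i j : Fin (2 ^ m + 1)) (g : G) :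
    zz ε 0 ≠ g * rr ε i j * g⁻¹ := by
  intro he
  obtain ⟨k, hk, hk1⟩ := NSix.CaseJ.Fus.control h h3 (v := rr ε i j) (g := g) (rr_mem h.ev i j)
    (by rw [← he]; exact zz_mem h.ev 0)
  rw [← he] at hk1
  obtain ⟨σ, hσ⟩ := (NSix.Norm.evenSet' h.hm S h.ev h.SP h.fix0).perm k hk
  rw [rr_conj hσ] at hk1
  exact zz_ne_rr h _ _ hk1

omit [Finite G] in
/-- Fixed elements of `S` lie in `V`. -/
theorem mem_of_fixed (S : Sylow 2 G) (P : Subgroup G) {u : G} (hu : u ∈ (S : Subgroup G)) (hu2 : u * u = 1)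
    (hS : ∀ s ∈ (S : Subgroup G), s * u * s⁻¹ = u) : u ∈ zl (S : Subgroup G) P :=
  MinSimple.VModule.zc_le_zl _ _ (MinSimple.VModule.mem_zc.2
    ⟨hu, fun s hs => mul_inv_eq_iff_eq_mul.1 (hS s hs), by rw [pow_two]; exact hu2⟩)

/-- **The transvection argument.** -/
theorem le_of_inv (h : Hyp S P ε) (h3 : 3 ≤ m) {X : Subgroup G} (hPX : P ≤ X) {Y : Subgroup G}
    (hY : IsElementaryAbelian 2 Y) (hYS : Y ≤ (S : Subgroup G)) (hVY : zl (S : Subgroup G) P ≤ Y)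
    (hXY : ∀ c ∈ X, ∀ y ∈ Y, c * y * c⁻¹ ∈ Y) {i j : Fin (2 ^ m + 1)} (hij : i ≠ j)
    {A : Subgroup G} (hA : Ex P ε i j A)
    (hc : ∀ a ∈ A ⊓ centralizer (zl (S : Subgroup G) P : Set G), ∀ y ∈ Y, a * y = y * a) :
    X ≤ normalizer (zl (S : Subgroup G) P : Set G) := by
  obtain ⟨V, hV⟩ : ∃ V, V = zl (S : Subgroup G) P := ⟨_, rfl⟩
  have hm1 : 1 ≤ m := by omega
  set U := closure {x | ∃ c ∈ X, x = c * zz ε 0 * c⁻¹} with hU
  have hUY : U ≤ Y := by
    rw [hU, closure_le]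
    rintro _ ⟨c, hcX, rfl⟩
    exact hXY c hcX _ (hVY (zz_mem h.ev 0))
  have hUS : U ≤ (S : Subgroup G) := hUY.trans hYS
  have hUsq : ∀ x ∈ U, x * x = 1 := fun x hx => by
    have := elem_sq hY x (hUY hx)
    rwa [pow_two] at this
  have hnor : ∀ c ∈ X, ∀ n ∈ U, c * n * c⁻¹ ∈ U := fun c hcX n hn =>
    (mem_normalizer_iff.1 (closure_norm X (zz ε 0) hcX) n).1 hn
  have hSX : (S : Subgroup G) ≤ X := h.SP.trans hPX
  have hzz : ∀ k, zz ε k ∈ U := by
    intro k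
    obtain ⟨p, hp, hpσ⟩ := h.ev.full (Equiv.swap 0 k)
    have h1 := zz_conj hpσ 0
    rw [Equiv.swap_apply_left] at h1
    exact subset_closure ⟨p, hPX hp, h1.symm⟩
  have hVU : zl (S : Subgroup G) P ≤ U := NSix.JNot.V_le_closure h.ev hzz
  have hrU : rr ε i j ∈ U := hVU (rr_mem h.ev i j)
  have hgenr : U ≤ closure {x | ∃ c ∈ X, x = c * rr ε i j * c⁻¹} := by
    rw [hU, closure_le]
    rintro _ ⟨c, hcX, rfl⟩
    have h1 : zz ε 0 ∈ closure {x | ∃ c ∈ X, x = c * rr ε i j * c⁻¹} := by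
      refine zz_zero_mem h.ev hm1 fun k hk => ?_
      obtain ⟨σ, h1, h2, -⟩ := exists_perm hij hk
      obtain ⟨p, hp, hpσ⟩ := h.ev.full σ
      refine subset_closure ⟨p, hPX hp, ?_⟩
      rw [rr_conj hpσ, h1, h2]
    exact (mem_normalizer_iff.1 (closure_norm X (rr ε i j) hcX) _).1 h1
  have hzS : zz ε 0 ∈ zc (S : Subgroup G) := (zc_iff h.hG hm1 h.hP h.ev h.fix0).2 (Or.inr rfl)
  have gs : GSys X U (rr ε i j) :=
    { sq := hUsq
      nor := hnor
      mem := hrU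
      ne := rr_ne_one h.ev (by have := h.five; omega) hij
      gen := hgenr
      chain := chain_of hUsq hnor (hzz 0) hU.le hSX S.isPGroup'
        (MinSimple.Basic.not_dvd_relIndex S hSX) (fun s hs => by
          rw [(MinSimple.VModule.mem_zc.1 hzS).2.1 s hs]; group) }
  obtain ⟨t, ht, ht'⟩ := hA.ex
  have htU : ∀ u ∈ U, t * u * t⁻¹ = u ∨ t * u * t⁻¹ = u * rr ε i j := fun u hu =>
    hA.transv h hij hY hVY hc ht (hUY hu)
  have hUV : U ≤ zl (S : Subgroup G) P := by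
    refine eq_of_tv ?_ (by have := h.five; omega) h.ev hPX hVU hij gs (hPX (hA.AP ht)) htU ht' ?_ S.isPGroup'
      h.SP ?_
    · exact Even.add_one (Nat.even_pow.mpr ⟨even_two, by omega⟩)
    · rintro ⟨c, -, h1⟩
      exact zz_ne h h3 i j c h1
    · intro u hu hs
      exact mem_of_fixed S P (hUS hu) (hUsq u hu) hs
  have hUV' : U = zl (S : Subgroup G) P := le_antisymm hUV hVU
  rw [← hUV']
  exact closure_norm X (zz ε 0)

omit [Finite G] in
/-- `N_G(J(Q))` normalises `Ω₁(Z(J(Q)))`. -/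
theorem jj_zj_mem {Q : Subgroup G} {g : G} (hg : g ∈ normalizer ((jj Q : Subgroup G) : Set G)) {z : G}
    (hz : z ∈ zj Q) : g * z * g⁻¹ ∈ zj Q := by
  have h1 := ChoiceBase.mem_zj.1 hz
  refine ChoiceBase.mem_zj.2 ⟨(mem_normalizer_iff.1 hg z).1 h1.1, ?_, fun y hy => ?_⟩
  · have := h1.2.1
    calc (g * z * g⁻¹) ^ 2 = g * z ^ 2 * g⁻¹ := by rw [pow_two, pow_two]; group
      _ = 1 := by rw [this]; group
  · have h2 : g⁻¹ * y * g ∈ jj Q := by
      have := (mem_normalizer_iff.1 (inv_mem hg) y).1 hy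
      rwa [inv_inv] at this
    have h3 := h1.2.2 _ h2
    calc y * (g * z * g⁻¹) = g * ((g⁻¹ * y * g) * z) * g⁻¹ := by group
      _ = g * (z * (g⁻¹ * y * g)) * g⁻¹ := by rw [h3]
      _ = g * z * g⁻¹ * y := by group

/-- **(N1)** `N_G(J(O₂(P))) ≤ N_G(V)`. -/
theorem jjQ_le (h : Hyp S P ε) (h3 : 3 ≤ m) :
    normalizer ((jj (o2 P) : Subgroup G) : Set G) ≤ normalizer (zl (S : Subgroup G) P : Set G) := by
  have hPX : P ≤ normalizer ((jj (o2 P) : Subgroup G) : Set G) :=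
    (MinSimple.VModule.le_normalizer_o2 P).trans (normalizer_le_of_cj (F := jj) jj_cj (o2 P))
  have h0 : (0 : Fin (2 ^ m + 1)) ≠ Fin.last (2 ^ m) := by
    intro h0
    have h1 : (0 : ℕ) = 2 ^ m := congrArg Fin.val h0
    have h2 : 0 < 2 ^ m := by positivity
    omega
  obtain ⟨A, hA⟩ := exists_ex h h0
  refine le_of_inv h h3 hPX (Bau.In.zj_elem (o2 P)) ?_ (V_le_zjQ h) (fun c hc y hy => jj_zj_mem hc hy)
    h0 hA ?_
  · exact (Bau.In.zj_le (o2 P)).trans h.QS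
  · intro a ha y hy
    exact (ChoiceBase.mem_zj.1 hy).2.2 a ((hA.A0_le h h0).1 ha)

end Cfsg.Agent.Omega.NO3S.SN.J.N1
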