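import Cfsg.Agent.Omega.NO3S.SN.J.N1
import Cfsg.Agent.Omega.NO3S.SN.One

/-!
# THEOREM SN, K-free part, case `J(S) ≰ O₂(P)`: LEMMA N (helper140, bb #16037 (2'')) and (N2) (helper581, #18311)

* `half` : a non-trivial 2-group of permutations of an odd set has a proper orbit `w` and a subset `h` of it which is
  mapped to itself or to `w + h`;
* `lemN` **LEMMA N** : `V^g ≤ O₂(P) ≤ N_G(V^g)` implies `V^g = V`;
* `mem_of_Q_le` **(N2)** : `g ∈ C_G(z)` and `O₂(P) ≤ N_G(V^g)` imply `V^g = V`.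
-/

set_option autoImplicit false

namespace Cfsg.Agent.Omega.NO3S.SN.J.N2

open Subgroup Cfsg Cfsg.Agent.PLocal.ThompsonJ Cfsg.Agent.ZN Cfsg.Agent.ZN.ChoiceBase
open Cfsg.Agent.ZN.ChoiceSit Cfsg.Agent.PLocal.ElemAbSup
open Cfsg.Agent.Omega.MinPar
open Cfsg.Agent.Omega.S5.Def Cfsg.Agent.Omega.S5.Syl Cfsg.Agent.Omega.S5.Pair
open Cfsg.Agent.Omega.NSix.Base Cfsg.Agent.Omega.NSix.Basic
open Cfsg.Agent.Omega.NSix.CaseJ.Base Cfsg.Agent.Omega.NSix.CaseJ.Exact
open Cfsg.Agent.Omega.NSix.CaseJ.LemQ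

universe u

/-! ### 2-groups of permutations -/

theorem exists_index_two {K : Type*} [Group K] [Finite K] (hK : IsPGroup 2 K) {H : Subgroup K} (hH : H ≠ ⊤) :
    ∃ M : Subgroup K, M.index = 2 ∧ H ≤ M := by
  have hf : Fact (Nat.Prime 2) := ⟨Nat.prime_two⟩
  obtain ⟨a, ha⟩ := IsPGroup.iff_card.1 hK
  obtain ⟨b, hb⟩ := IsPGroup.iff_card.1 (hK.to_subgroup H)
  have hba : b < a := by
    by_contra hcon
    push Not at hcon
    apply hH
    apply Subgroup.eq_top_of_le_card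
    rw [ha, hb]
    exact Nat.pow_le_pow_right (by norm_num) hcon
  obtain ⟨M, hM, hHM⟩ := Sylow.exists_subgroup_card_pow_prime_le 2 (m := a - 1)
    (by rw [ha]; exact pow_dvd_pow 2 (Nat.sub_le a 1)) H hb (by omega)
  refine ⟨M, ?_, hHM⟩
  have h1 := M.card_mul_index
  rw [hM, ha] at h1
  have h2 : 2 ^ a = 2 ^ (a - 1) * 2 := by rw [← pow_succ]; congr 1; omega
  rw [h2] at h1
  exact Nat.eq_of_mul_eq_mul_left (by positivity) h1

theorem z011 : (0 : ZMod 2) = 1 + 1 := by decide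

theorem z110 : (1 : ZMod 2) = 1 + 0 := by decide

theorem z000 : (0 : ZMod 2) = 0 + 0 := by decide

/-- Half of a proper orbit. -/
theorem half {K : Type*} [Group K] [Finite K] (hK : IsPGroup 2 K) {n : ℕ} (hn : Odd n)
    (f : K →* Equiv.Perm (Fin n)) (hf : ∃ k, f k ≠ 1) :
    ∃ h w : Fin n → ZMod 2, w ≠ 0 ∧ w ≠ 1 ∧ (∀ k, w ∘ (f k).symm = w) ∧
      (∀ k, h ∘ (f k).symm = h ∨ h ∘ (f k).symm = w + h) ∧ ∃ k, h ∘ (f k).symm = w + h := by
  classical
  have hfact : Fact (Nat.Prime 2) := ⟨Nat.prime_two⟩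
  obtain ⟨k₀, hk₀⟩ := hf
  obtain ⟨x, hx⟩ : ∃ x, f k₀ x ≠ x := by
    by_contra hcon
    push Not at hcon
    exact hk₀ (Equiv.ext hcon)
  let act : MulAction K (Fin n) := MulAction.compHom _ f
  have hsm : ∀ (k : K) (y : Fin n), k • y = f k y := fun _ _ => rfl
  obtain ⟨y₀, hy₀⟩ := hK.nonempty_fixed_point_of_prime_not_dvd_card (Fin n) (by
    rw [Nat.card_eq_fintype_card, Fintype.card_fin]
    exact hn.not_two_dvd_nat)
  have hy₀' : ∀ k, f k y₀ = y₀ := fun k => hy₀ k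
  set H : Subgroup K := MulAction.stabilizer K x with hH
  have hmH : ∀ k, k ∈ H ↔ f k x = x := fun k => MulAction.mem_stabilizer_iff
  have hHt : H ≠ ⊤ := fun h0 => hx ((hmH k₀).1 (h0 ▸ mem_top k₀))
  obtain ⟨M, hM, hHM⟩ := exists_index_two hK hHt
  have hMn : M.Normal := Subgroup.normal_of_index_eq_two hM
  have hmul : ∀ a b : K, a * b ∈ M ↔ (a ∈ M ↔ b ∈ M) := fun a b => Subgroup.mul_mem_iff_of_index_two hM
  have hinv : ∀ a : K, a⁻¹ ∈ M ↔ a ∈ M := fun a => inv_mem_iff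
  obtain ⟨q, hq⟩ : ∃ q, q ∉ M := by
    by_contra hcon
    push Not at hcon
    have h1 : M = ⊤ := eq_top_iff.2 fun x _ => hcon x
    rw [h1, index_top] at hM
    exact absurd hM (by norm_num)
  have fm : ∀ a b y, f (a * b) y = f a (f b y) := fun a b y => by rw [map_mul]; rfl
  have fi : ∀ a y, (f a).symm y = f a⁻¹ y := fun a y => by rw [map_inv]; rfl
  -- the class of `k` modulo `M` depends only on `f k x`
  have key : ∀ a b, f a x = f b x → (a ∈ M ↔ b ∈ M) := by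
    intro a b hab
    have h1 : b⁻¹ * a ∈ H := by
      rw [hmH, fm, hab, ← fm, inv_mul_cancel, map_one]; rfl
    have h2 := (hmul b⁻¹ a).1 (hHM h1)
    rw [hinv] at h2
    exact h2.symm
  let h : Fin n → ZMod 2 := fun y => if ∃ k ∈ M, f k x = y then 1 else 0
  let w : Fin n → ZMod 2 := fun y => if ∃ k, f k x = y then 1 else 0
  have hh1 : ∀ k, k ∈ M → h (f k x) = 1 := fun k hk => if_pos ⟨k, hk, rfl⟩
  have hh0 : ∀ k, k ∉ M → h (f k x) = 0 := fun k hk => if_neg fun ⟨k', hk', h1⟩ => hk ((key _ _ h1).1 hk')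
  have hw1 : ∀ k, w (f k x) = 1 := fun k => if_pos ⟨k, rfl⟩
  have hno : ∀ y, (¬ ∃ k, f k x = y) → h y = 0 ∧ w y = 0 := fun y hy =>
    ⟨if_neg fun ⟨k, _, h1⟩ => hy ⟨k, h1⟩, if_neg hy⟩
  have hnoi : ∀ k y, (¬ ∃ k, f k x = y) → ¬ ∃ k', f k' x = f k⁻¹ y := by
    rintro k y hy ⟨k', h1⟩
    refine hy ⟨k * k', ?_⟩
    rw [fm, h1, ← fm, mul_inv_cancel, map_one]; rfl
  have hact : ∀ k, (k ∈ M → h ∘ (f k).symm = h) ∧ (k ∉ M → h ∘ (f k).symm = w + h) := by
    intro k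
    constructor
    · intro hk
      funext y
      rw [Function.comp_apply, fi]
      by_cases hy : ∃ k', f k' x = y
      · obtain ⟨k', rfl⟩ := hy
        rw [← fm]
        have h2 := hmul k⁻¹ k'
        rw [hinv] at h2
        by_cases hk' : k' ∈ M
        · rw [hh1 _ (h2.2 ⟨fun _ => hk', fun _ => hk⟩), hh1 _ hk']
        · rw [hh0 _ (fun h3 => hk' ((h2.1 h3).1 hk)), hh0 _ hk']
      · rw [(hno y hy).1, (hno _ (hnoi k y hy)).1]
    · intro hk
      funext y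
      rw [Function.comp_apply, fi, Pi.add_apply]
      by_cases hy : ∃ k', f k' x = y
      · obtain ⟨k', rfl⟩ := hy
        rw [← fm, hw1]
        have h2 := hmul k⁻¹ k'
        rw [hinv] at h2
        by_cases hk' : k' ∈ M
        · rw [hh0 _ (fun h3 => hk ((h2.1 h3).2 hk')), hh1 _ hk']
          exact z011
        · rw [hh1 _ (h2.2 ⟨fun h3 => absurd h3 hk, fun h3 => absurd h3 hk'⟩), hh0 _ hk']
          exact z110
      · rw [(hno y hy).1, (hno y hy).2, (hno _ (hnoi k y hy)).1]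
        exact z000
  refine ⟨h, w, ?_, ?_, ?_, ?_, q, (hact q).2 hq⟩
  · intro h0
    have h1 := hw1 1
    rw [h0, Pi.zero_apply] at h1
    exact zero_ne_one h1
  · intro h0
    have h1 : w y₀ = 1 := by rw [h0]; rfl
    by_cases hy : ∃ k, f k x = y₀
    · obtain ⟨k, hk⟩ := hy
      apply hx
      have h2 : x = y₀ := by
        rw [← hy₀' k⁻¹, ← hk, ← fm, inv_mul_cancel, map_one]; rfl
      rw [h2, hy₀']
    · rw [(hno _ hy).2] at h1
      exact zero_ne_one h1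
  · intro k
    funext y
    rw [Function.comp_apply, fi]
    by_cases hy : ∃ k', f k' x = y
    · obtain ⟨k', rfl⟩ := hy
      rw [← fm, hw1, hw1]
    · rw [(hno y hy).2, (hno _ (hnoi k y hy)).2]
  · intro k
    by_cases hk : k ∈ M
    · exact Or.inl ((hact k).1 hk)
    · exact Or.inr ((hact k).2 hk)

variable {G : Type u} [Group G] [Finite G] {S : Sylow 2 G} {P : Subgroup G} {m : ℕ}
  {ε : (Fin (2 ^ m + 1) → ZMod 2) → G}

/-- **LEMMA N.** -/
theorem lemN (h : NSix.CaseJ.Base.Hyp S P ε) {g : G} (h1 : cj g (zl (S : Subgroup G) P) ≤ o2 P)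
    (h2 : o2 P ≤ normalizer ((cj g (zl (S : Subgroup G) P) : Subgroup G) : Set G)) :
    g ∈ normalizer (zl (S : Subgroup G) P : Set G) := by
  obtain ⟨V, hV⟩ : ∃ V, V = zl (S : Subgroup G) P := ⟨_, rfl⟩
  have hM := NSix.Norm.evenSet' h.hm S h.ev h.SP h.fix0
  have hn : ∀ q ∈ o2 P, g⁻¹ * q * g ∈ normalizer (zl (S : Subgroup G) P : Set G) := by
    intro q hq
    refine mem_normalizer_of_cj_le ?_
    rintro _ ⟨v, hv, rfl⟩
    change g⁻¹ * q * g * v * (g⁻¹ * q * g)⁻¹ ∈ _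
    have h3 : g * v * g⁻¹ ∈ cj g (zl (S : Subgroup G) P) := ⟨v, hv, rfl⟩
    have h4 := (mem_normalizer_iff.1 (h2 hq) _).1 h3
    rw [mem_cj] at h4
    have e : g⁻¹ * (q * (g * v * g⁻¹) * q⁻¹) * g = g⁻¹ * q * g * v * (g⁻¹ * q * g)⁻¹ := by group
    rwa [e] at h4
  let c : o2 P →* normalizer (zl (S : Subgroup G) P : Set G) :=
    { toFun := fun q => ⟨g⁻¹ * q * g, hn q q.2⟩
      map_one' := Subtype.ext (by change g⁻¹ * 1 * g = 1; group)
      map_mul' := fun a b => Subtype.ext (by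
        change g⁻¹ * (a * b) * g = g⁻¹ * a * g * (g⁻¹ * b * g); group) }
  let f : o2 P →* Equiv.Perm (Fin (2 ^ m + 1)) := (hM.hom h.three).comp c
  have hact : ∀ (q : o2 P) x, (q : G) * (g * ε x * g⁻¹) * (q : G)⁻¹ = g * ε (x ∘ (f q).symm) * g⁻¹ := by
    intro q x
    have h3 := hM.acts_hom h.three (c q) x
    change g⁻¹ * q * g * ε x * (g⁻¹ * q * g)⁻¹ = ε (x ∘ (f q).symm) at h3
    rw [← h3]; group
  have hmemQ : ∀ x, g * ε x * g⁻¹ ∈ o2 P := fun x => h1 ⟨ε x, h.ev.mem x, rfl⟩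
  have hsq : ∀ x, (g * ε x * g⁻¹) * (g * ε x * g⁻¹) = 1 := fun x => by
    calc (g * ε x * g⁻¹) * (g * ε x * g⁻¹) = g * (ε x * ε x) * g⁻¹ := by group
      _ = 1 := by rw [h.ev.sq]; group
  -- vectors fixed by `Q` are in `V`
  have hfixed : ∀ x, (∀ q : o2 P, x ∘ (f q).symm = x) → g * ε x * g⁻¹ ∈ zl (S : Subgroup G) P := by
    intro x hx
    refine oz h (hmemQ x) (hsq x) fun q hq => ?_
    have h3 := hact ⟨q, hq⟩ x
    rw [hx] at h3
    exact mul_inv_eq_iff_eq_mul.1 h3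
  by_cases hf : ∃ q, f q ≠ 1
  · exfalso
    obtain ⟨u, w, hw0, hw1, hw, hu, q, hq⟩ := half (Cfsg.Agent.MinSimple.VModule.o2_isPGroup P) (by
      exact Even.add_one (Nat.even_pow.mpr ⟨even_two, by have := h.hm; omega⟩)) f hf
    have hwV := hfixed w hw
    have hwne : g * ε w * g⁻¹ ≠ 1 := by
      intro h0
      have h3 : ε w = 1 := conj_eq_one_iff.1 h0
      rcases (h.ev.ker w).1 h3 with h4 | h4
      · exact hw0 h4
      · exact hw1 h4
    have hadd : ∀ x y, g * ε (x + y) * g⁻¹ = (g * ε x * g⁻¹) * (g * ε y * g⁻¹) := fun x y => by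
      rw [h.ev.add]; group
    have huV : g * ε u * g⁻¹ ∈ zl (S : Subgroup G) P := by
      refine mem h (hmemQ u) (hsq u) hwV hwne fun q hq => ?_
      rcases hu ⟨q, hq⟩ with h3 | h3
      · left
        have h4 := hact ⟨q, hq⟩ u
        rwa [h3] at h4
      · right
        have h4 := hact ⟨q, hq⟩ u
        rw [h3, hadd] at h4
        exact h4
    have h4 := hact q u
    rw [hq, hadd] at h4
    have h5 : (q : G) * (g * ε u * g⁻¹) * (q : G)⁻¹ = g * ε u * g⁻¹ := by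
      rw [h.VcQ q.2 huV]; group
    rw [h5] at h4
    exact hwne (mul_eq_right.1 h4.symm)
  · push Not at hf
    refine mem_normalizer_of_cj_le ?_
    rintro _ ⟨v, hv, rfl⟩
    obtain ⟨x, rfl⟩ := h.ev.surj v hv
    exact hfixed x fun q => by rw [hf q]; rfl

/-- The conjugates of `V` under `C_G(z)` lie in `O₂(P)`. -/
theorem cj_le_Q (h : NSix.CaseJ.Base.Hyp S P ε) (hN : SN.Hyp S P m ε) {g : G}
    (hg : g ∈ centralizer ({ε (Pi.single 0 1)} : Set G)) : cj g (zl (S : Subgroup G) P) ≤ o2 P := by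
  have h1 := hN.V_le
  set C := centralizer ({ε (Pi.single 0 1)} : Set G) with hC
  have h2 : cj g (zl (S : Subgroup G) P) ≤ zc (o2 C) := by
    rintro _ ⟨v, hv, rfl⟩
    have h3 := MinSimple.VModule.mem_zc.1 (h1 hv)
    have hn := MinSimple.VModule.le_normalizer_o2 C hg
    refine MinSimple.VModule.mem_zc.2 ⟨(mem_normalizer_iff.1 hn v).1 h3.1, fun x hx => ?_, ?_⟩
    · have h4 : g⁻¹ * x * g ∈ o2 C := by
        have := (mem_normalizer_iff.1 (inv_mem hn) x).1 hx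
        rwa [inv_inv] at this
      have h5 := h3.2.1 _ h4
      change x * (g * v * g⁻¹) = g * v * g⁻¹ * x
      calc x * (g * v * g⁻¹) = g * ((g⁻¹ * x * g) * v) * g⁻¹ := by group
        _ = g * (v * (g⁻¹ * x * g)) * g⁻¹ := by rw [h5]
        _ = g * v * g⁻¹ * x := by group
    · change (g * v * g⁻¹) ^ 2 = 1
      calc (g * v * g⁻¹) ^ 2 = g * v ^ 2 * g⁻¹ := by rw [pow_two, pow_two]; group
        _ = 1 := by rw [h3.2.2]; group
  intro x hx
  have h3 := MinSimple.VModule.mem_zc.1 (h2 hx)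
  exact h.cS (hN.o2_le_S h3.1) fun v hv => (h3.2.1 v (MinSimple.VModule.mem_zc.1 (h1 hv)).1).symm

/-- **(N2)** a conjugate of `O₂(P)` under `C_G(z)` lies in the normaliser of exactly one of the conjugates of `V`. -/
theorem mem_of_Q_le (h : NSix.CaseJ.Base.Hyp S P ε) (hN : SN.Hyp S P m ε) {g : G}
    (hg : g ∈ centralizer ({ε (Pi.single 0 1)} : Set G))
    (h2 : o2 P ≤ normalizer ((cj g (zl (S : Subgroup G) P) : Subgroup G) : Set G)) :
    g ∈ normalizer (zl (S : Subgroup G) P : Set G) := lemN h (cj_le_Q h hN hg) h2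

end Cfsg.Agent.Omega.NO3S.SN.J.N2
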